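import Cfsg.Agent.Lib.Extraspecial.Basic

/-!
Coordinates on an extraspecial group of order `p^3` and exponent `p`: `exists_coord`.
-/

set_option autoImplicit false
set_option linter.unusedSectionVars false

open scoped commutatorElement

namespace Cfsg.Agent.RadicalLines

variable {p : ℕ} [Fact p.Prime]

/-- `x ^ i` for `i : ZMod p`. -/
def zp {E : Type*} [Monoid E] (x : E) (i : ZMod p) : E := x ^ i.val

section Zp

variable {E : Type*} [Group E] {x : E}

theorem zp_natCast (hx : x ^ p = 1) (n : ℕ) : zp x (n : ZMod p) = x ^ n := by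
  rw [zp, ZMod.val_natCast, ← pow_eq_pow_mod n hx]

theorem zp_add (hx : x ^ p = 1) (i j : ZMod p) : zp x (i + j) = zp x i * zp x j := by
  rw [zp, zp, zp, ZMod.val_add, ← pow_eq_pow_mod _ hx, pow_add]

theorem zp_mul (hx : x ^ p = 1) (i j : ZMod p) : zp x (i * j) = zp (zp x i) j := by
  rw [zp, zp, zp, ZMod.val_mul, ← pow_eq_pow_mod _ hx, pow_mul]

@[simp] theorem zp_zero : zp x (0 : ZMod p) = 1 := by simp [zp]

@[simp] theorem zp_one : zp x (1 : ZMod p) = x := by
  rw [zp, ZMod.val_one, pow_one]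

theorem zp_neg (hx : x ^ p = 1) (i : ZMod p) : zp x (-i) = (zp x i)⁻¹ := by
  rw [eq_inv_iff_mul_eq_one, ← zp_add hx, neg_add_cancel, zp_zero]

theorem zp_eq_one_iff (hx : x ^ p = 1) (hx1 : x ≠ 1) {i : ZMod p} : zp x i = 1 ↔ i = 0 := by
  refine ⟨fun h => ?_, fun h => by rw [h, zp_zero]⟩
  have ho : orderOf x = p := orderOf_eq_prime hx hx1
  have hd : orderOf x ∣ i.val := orderOf_dvd_of_pow_eq_one (show x ^ i.val = 1 from h)
  rw [ho] at hd
  exact (ZMod.val_eq_zero i).mp (Nat.eq_zero_of_dvd_of_lt hd (ZMod.val_lt i))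

theorem zp_injective (hx : x ^ p = 1) (hx1 : x ≠ 1) : Function.Injective (zp x : ZMod p → E) := fun i j h => by
  rw [← sub_eq_zero, ← zp_eq_one_iff hx hx1, sub_eq_add_neg, zp_add hx, zp_neg hx, h, mul_inv_cancel]

end Zp

variable {E : Type*} [Group E] [Finite E] (hE : Cfsg.IsExtraspecial p E)

include hE

theorem comm_mul_left (x y z : E) : ⁅x * y, z⁆ = ⁅x, z⁆ * ⁅y, z⁆ := by
  have h := Subgroup.mem_center_iff.mp (Extraspecial.commutatorElement_mem_center hE y z)
  calc ⁅x * y, z⁆ = x * ⁅y, z⁆ * x⁻¹ * ⁅x, z⁆ := by simp only [commutatorElement_def]; group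
    _ = ⁅y, z⁆ * ⁅x, z⁆ := by rw [h x, mul_inv_cancel_right]
    _ = ⁅x, z⁆ * ⁅y, z⁆ := (h _).symm

theorem comm_pow_left (x y : E) (n : ℕ) : ⁅x ^ n, y⁆ = ⁅x, y⁆ ^ n := by
  induction n with
  | zero => simp
  | succ n ih => rw [pow_succ, comm_mul_left hE, ih, pow_succ]

theorem comm_mul_right (x y z : E) : ⁅x, y * z⁆ = ⁅x, y⁆ * ⁅x, z⁆ := by
  rw [← commutatorElement_inv (y * z), comm_mul_left hE, mul_inv_rev, commutatorElement_inv,
    commutatorElement_inv]
  exact Subgroup.mem_center_iff.mp (Extraspecial.commutatorElement_mem_center hE x y) _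

theorem comm_pow_right (x y : E) (n : ℕ) : ⁅x, y ^ n⁆ = ⁅x, y⁆ ^ n := by
  induction n with
  | zero => simp
  | succ n ih => rw [pow_succ, comm_mul_right hE, ih, pow_succ]

theorem comm_zp_left (x y : E) (i : ZMod p) : ⁅zp x i, y⁆ = zp ⁅x, y⁆ i := comm_pow_left hE x y _

theorem comm_zp_right (x y : E) (i : ZMod p) : ⁅x, zp y i⁆ = zp ⁅x, y⁆ i := comm_pow_right hE x y _

theorem exists_coord (hcard : Nat.card E = p ^ 3) (hexp : ∀ x : E, x ^ p = 1) :
    ∃ (φ : E → Fin 2 → ZMod p) (w : E), (∀ x y, φ (x * y) = φ x + φ y) ∧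
      (∀ x, φ x = 0 ↔ x ∈ Subgroup.center E) ∧ Function.Surjective φ ∧
      w ≠ 1 ∧ w ∈ Subgroup.center E ∧ (∀ z ∈ Subgroup.center E, ∃ i : ZMod p, z = zp w i) ∧
      ∀ x y, ⁅x, y⁆ = zp w (φ x 0 * φ y 1 - φ x 1 * φ y 0) := by
  set Z := Subgroup.center E with hZ
  obtain ⟨u, v, huv⟩ : ∃ u v : E, ⁅u, v⁆ ≠ 1 := by
    by_contra hc
    push Not at hc
    refine Extraspecial.center_ne_top hE ((Subgroup.eq_top_iff' _).mpr fun u => Subgroup.mem_center_iff.mpr
      fun v => (commutatorElement_eq_one_iff_mul_comm.mp (hc u v)).symm)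
  set w := ⁅u, v⁆ with hw
  have hwp : w ^ p = 1 := hexp w
  have hwZ : w ∈ Z := Extraspecial.commutatorElement_mem_center hE u v
  have hgenZ : ∀ z ∈ Z, ∃ i : ZMod p, z = zp w i := by
    intro z hz
    let f : ZMod p → ↥Z := fun i => ⟨zp w i, pow_mem hwZ _⟩
    have hinj : Function.Injective f := fun i j h => zp_injective hwp huv (congrArg Subtype.val h)
    obtain ⟨i, hi⟩ := ((Nat.bijective_iff_injective_and_card f).mpr
      ⟨hinj, by rw [Nat.card_zmod]; exact hE.2.symm⟩).2 ⟨z, hz⟩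
    exact ⟨i, (congrArg Subtype.val hi).symm⟩
  have hQc : ∀ x y : E ⧸ Z, x * y = y * x := fun x y =>
    QuotientGroup.induction_on x fun a => QuotientGroup.induction_on y fun b => by
      refine (QuotientGroup.eq).mpr ?_
      rw [show (a * b)⁻¹ * (b * a) = ⁅b⁻¹, a⁻¹⁆ by simp only [commutatorElement_def]; group]
      exact Extraspecial.commutatorElement_mem_center hE _ _
  let f : (Fin 2 → ZMod p) → E ⧸ Z := fun c => ((zp u (c 0) * zp v (c 1) : E) : E ⧸ Z)
  have hfadd : ∀ c d, f (c + d) = f c * f d := by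
    intro c d
    show ((zp u (c 0 + d 0) * zp v (c 1 + d 1) : E) : E ⧸ Z) = _ * _
    rw [zp_add (hexp u), zp_add (hexp v)]
    simp only [f, QuotientGroup.mk_mul]
    rw [mul_assoc, mul_assoc]
    congr 1
    rw [← mul_assoc, ← mul_assoc, hQc (↑(zp u (d 0)))]
  have hfone : ∀ c, f c = 1 → c = 0 := by
    intro c hc
    have hmem : zp u (c 0) * zp v (c 1) ∈ Z := (QuotientGroup.eq_one_iff _).mp hc
    have h1 : ⁅zp u (c 0) * zp v (c 1), v⁆ = 1 :=
      commutatorElement_eq_one_iff_mul_comm.mpr (Subgroup.mem_center_iff.mp hmem v).symm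
    have h2 : ⁅u, zp u (c 0) * zp v (c 1)⁆ = 1 :=
      commutatorElement_eq_one_iff_mul_comm.mpr (Subgroup.mem_center_iff.mp hmem u)
    rw [comm_mul_left hE, comm_zp_left hE, comm_zp_left hE, commutatorElement_self] at h1
    rw [comm_mul_right hE, comm_zp_right hE, comm_zp_right hE, commutatorElement_self] at h2
    simp only [zp, one_pow, mul_one] at h1
    simp only [zp, one_pow, one_mul] at h2
    funext r
    fin_cases r
    · exact (zp_eq_one_iff hwp huv).mp h1
    · exact (zp_eq_one_iff hwp huv).mp h2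
  have hfinj : Function.Injective f := fun c d h => by
    have : f (c - d) * f d = 1 * f d := by rw [← hfadd, sub_add_cancel, h, one_mul]
    exact sub_eq_zero.mp (hfone _ (mul_right_cancel this))
  have hQcard : Nat.card (E ⧸ Z) = p ^ 2 := by
    have h := Subgroup.card_eq_card_quotient_mul_card_subgroup Z
    rw [hcard, hE.2, pow_succ] at h
    exact (Nat.eq_of_mul_eq_mul_right (Fact.out : p.Prime).pos h).symm
  have hfbij : Function.Bijective f := (Nat.bijective_iff_injective_and_card f).mpr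
    ⟨hfinj, by rw [Nat.card_pi, Fin.prod_univ_two, Nat.card_zmod, hQcard, pow_two]⟩
  let g := (Equiv.ofBijective f hfbij).symm
  have hfg : ∀ q, f (g q) = q := (Equiv.ofBijective f hfbij).apply_symm_apply
  have hadd : ∀ x y : E, g ((x * y : E) : E ⧸ Z) = g ↑x + g ↑y := fun x y => hfbij.1 (by
    rw [hfg, hfadd, hfg, hfg, QuotientGroup.mk_mul])
  refine ⟨fun x => g ↑x, w, hadd, fun x => ?_, fun c => ?_, huv, hwZ, hgenZ, fun x y => ?_⟩
  · have hf0 : f 0 = 1 := by simp [f]
    rw [← QuotientGroup.eq_one_iff, ← hfbij.1.eq_iff, hfg, hf0]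
  · obtain ⟨x, hx⟩ := QuotientGroup.mk_surjective (f c)
    exact ⟨x, by show g ↑x = c; rw [hx]; exact (Equiv.ofBijective f hfbij).symm_apply_apply c⟩
  · have key : ∀ x : E, ∃ z ∈ Z, x = zp u (g ↑x 0) * zp v (g ↑x 1) * z := by
      intro x
      refine ⟨_, ?_, (mul_inv_cancel_left _ x).symm⟩
      exact QuotientGroup.eq.mp (hfg ↑x)
    obtain ⟨z, hz, hx⟩ := key x
    obtain ⟨z', hz', hy⟩ := key y
    have hzc : ∀ a : E, ⁅z, a⁆ = 1 := fun a =>
      commutatorElement_eq_one_iff_mul_comm.mpr (Subgroup.mem_center_iff.mp hz a).symm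
    have hzc' : ∀ a : E, ⁅a, z'⁆ = 1 := fun a =>
      commutatorElement_eq_one_iff_mul_comm.mpr (Subgroup.mem_center_iff.mp hz' a)
    have hvu : ⁅v, u⁆ = zp w (-1 : ZMod p) := by rw [zp_neg hwp, zp_one, hw, commutatorElement_inv]
    show ⁅x, y⁆ = zp w (g ↑x 0 * g ↑y 1 - g ↑x 1 * g ↑y 0)
    generalize g ↑x = c at hx ⊢
    generalize g ↑y = d at hy ⊢
    rw [hx, hy]
    simp only [comm_mul_left hE, comm_mul_right hE, comm_zp_left hE, comm_zp_right hE, hzc, hzc',
      commutatorElement_self, mul_one, hvu, ← hw, ← zp_mul hwp]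
    simp only [zp, one_pow, one_mul, mul_one]
    show zp w _ * zp w _ = zp w _
    rw [← zp_add hwp]
    congr 1
    ring

end Cfsg.Agent.RadicalLines
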