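import Cfsg.Agent.Lib.PSL2.Finite

/-!
A finite subgroup of `PGL_2(K)` of order prime to the characteristic, `K` algebraically closed, has at most two
points with stabiliser of order at least six (`not_three_big_stab`).
-/

set_option autoImplicit false
set_option linter.unusedSectionVars false

open MulAction

namespace Cfsg.Agent.RadicalLines

open Cfsg.Agent.PSL2

variable {K : Type*} [Field K] [IsAlgClosed K] (p : ℕ) [Fact p.Prime] [CharP K p]
  (H : Subgroup (PGL2 K)) [Finite H]

theorem six_mul_orbit_le {P : Pt K} (h6 : 6 ≤ Nat.card (stabilizer H P)) :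
    6 * (orbitF H P).card ≤ Nat.card H := by
  rw [← card_orbitF_mul H P, mul_comm]
  exact Nat.mul_le_mul_left _ h6

theorem mem_special_of_two_le {P : Pt K} (h2 : 2 ≤ Nat.card (stabilizer H P)) : P ∈ specialF H p := by
  obtain ⟨⟨x, hx⟩, hx1⟩ := (nontrivial_iff_exists_ne (1 : stabilizer H P)).1
    (Finite.one_lt_card_iff_nontrivial.1 h2)
  exact (mem_specialF H p).2 ⟨x, x.2, fun e => hx1 (Subtype.ext (Subtype.ext e)), hx⟩

/-- Two distinct orbits of points with big stabilisers are singletons and exhaust the special points. -/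
theorem two_orbits (hp : ¬ p ∣ Nat.card H) {P Q R : Pt K}
    (hP : 6 ≤ Nat.card (stabilizer H P)) (hQ : 6 ≤ Nat.card (stabilizer H Q))
    (hR : 2 ≤ Nat.card (stabilizer H R)) (hQP : Q ∉ orbitF H P) (hRP : R ≠ P) (hRQ : R ≠ Q) : False := by
  classical
  have htot := sum_stab H p
  rw [numUnip_eq_zero H p hp, add_zero] at htot
  obtain ⟨e1, -, o1, i1⟩ := peel H p (inv_specialF H p) (mem_special_of_two_le p H (by omega : 2 ≤ _))
    (P := P)
  have hQ1 : Q ∈ specialF H p \ orbitF H P :=
    Finset.mem_sdiff.2 ⟨mem_special_of_two_le p H (by omega), hQP⟩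
  obtain ⟨e2, -, o2, i2⟩ := peel H p i1 hQ1
  have := six_mul_orbit_le H hP
  have := six_mul_orbit_le H hQ
  have hH : 0 < Nat.card H := Nat.card_pos
  rcases ((specialF H p \ orbitF H P) \ orbitF H Q).eq_empty_or_nonempty with h | ⟨T, hT⟩
  · rw [h, Finset.sum_empty] at e2
    have h1 : (orbitF H P).card = 1 := by omega
    have h2 : (orbitF H Q).card = 1 := by omega
    obtain ⟨P', hP'⟩ := Finset.card_eq_one.1 h1
    obtain ⟨Q', hQ'⟩ := Finset.card_eq_one.1 h2
    have hPP : P = P' := Finset.mem_singleton.1 (hP' ▸ (mem_orbitF H).2 (mem_orbit_self P))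
    have hQQ : Q = Q' := Finset.mem_singleton.1 (hQ' ▸ (mem_orbitF H).2 (mem_orbit_self Q))
    have hmem : R ∈ ((specialF H p \ orbitF H P) \ orbitF H Q) := by
      simp only [Finset.mem_sdiff, hP', hQ', Finset.mem_singleton, ← hPP, ← hQQ]
      exact ⟨⟨mem_special_of_two_le p H hR, hRP⟩, hRQ⟩
    rw [h] at hmem
    exact absurd hmem (Finset.notMem_empty R)
  · obtain ⟨e3, l3, -, -⟩ := peel H p i2 hT
    omega

/-- At most two points have a stabiliser of order at least six. -/
theorem not_three_big_stab (hp : ¬ p ∣ Nat.card H) (P : Fin 3 → Pt K) (hinj : Function.Injective P)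
    (h6 : ∀ i, 6 ≤ Nat.card (stabilizer H (P i))) : False := by
  classical
  have h2 : ∀ i, 2 ≤ Nat.card (stabilizer H (P i)) := fun i => by have := h6 i; omega
  by_cases h1 : P 1 ∈ orbitF H (P 0)
  swap
  · exact two_orbits p H hp (h6 0) (h6 1) (h2 2) h1 (hinj.ne (by decide)) (hinj.ne (by decide))
  by_cases h2' : P 2 ∈ orbitF H (P 0)
  swap
  · exact two_orbits p H hp (h6 0) (h6 2) (h2 1) h2' (hinj.ne (by decide)) (hinj.ne (by decide))
  have hk : 3 ≤ (orbitF H (P 0)).card := by
    have hsub : Finset.univ.image P ⊆ orbitF H (P 0) := by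
      intro x hx
      obtain ⟨i, -, rfl⟩ := Finset.mem_image.1 hx
      fin_cases i
      · exact (mem_orbitF H).2 (mem_orbit_self _)
      · exact h1
      · exact h2'
    have := Finset.card_le_card hsub
    rwa [Finset.card_image_of_injective _ hinj, Finset.card_univ, Fintype.card_fin] at this
  have htot := sum_stab H p
  rw [numUnip_eq_zero H p hp, add_zero] at htot
  obtain ⟨e1, -, -, i1⟩ := peel H p (inv_specialF H p) (mem_special_of_two_le p H (h2 0))
  have hk6 := six_mul_orbit_le H (h6 0)
  have hH : 0 < Nat.card H := Nat.card_pos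
  rcases (specialF H p \ orbitF H (P 0)).eq_empty_or_nonempty with h | ⟨T, hT⟩
  · rw [h, Finset.sum_empty] at e1
    omega
  obtain ⟨e2, l2, -, i2⟩ := peel H p i1 hT
  rcases ((specialF H p \ orbitF H (P 0)) \ orbitF H T).eq_empty_or_nonempty with h | ⟨U, hU⟩
  · rw [h, Finset.sum_empty] at e2
    omega
  obtain ⟨e3, l3, -, i3⟩ := peel H p i2 hU
  rcases (((specialF H p \ orbitF H (P 0)) \ orbitF H T) \ orbitF H U).eq_empty_or_nonempty with h | ⟨V, hV⟩
  · rw [h, Finset.sum_empty] at e3
    have hT' := card_orbitF_mul H T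
    have hU' := card_orbitF_mul H U
    by_cases hT3 : 3 ≤ Nat.card (stabilizer H T)
    · have := Nat.mul_le_mul_left (orbitF H T).card hT3
      omega
    by_cases hU3 : 3 ≤ Nat.card (stabilizer H U)
    · have := Nat.mul_le_mul_left (orbitF H U).card hU3
      omega
    have hTe : Nat.card (stabilizer H T) = 2 := le_antisymm (by omega) (two_le_stab H p (i1.1 hT))
    have hUe : Nat.card (stabilizer H U) = 2 := le_antisymm (by omega) (two_le_stab H p (i2.1 hU))
    rw [hTe] at hT'
    rw [hUe] at hU'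
    omega
  · obtain ⟨e4, l4, -, -⟩ := peel H p i3 hV
    omega

end Cfsg.Agent.RadicalLines
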